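/-
Subgroups of `SL₂`, characteristic two, with a large root group and an opposite involution.
Main results: `sl_two`.
-/
import Cfsg.Agent.Lib.PSL2.Transvections
import Cfsg.Agent.Lib.PSL2.Overgroups
import Cfsg.Agent.Lib.Mitchell.Transv.Frame

set_option autoImplicit false
set_option linter.unusedSectionVars false
set_option linter.style.haveILetI false

namespace Cfsg.Agent.Mitchell.TransvTwo

open Matrix PSL2

variable {F : Type*} [Field F]

/-- Upper unitriangular matrices. -/
def upHom : Multiplicative F →* SL2 F :=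
  MonoidHom.mk' (fun a => upT a.toAdd) fun a b => Subtype.ext (by
    rw [Matrix.SpecialLinearGroup.coe_mul]
    show !![1, a.toAdd + b.toAdd; 0, 1] = _
    ext i j
    fin_cases i <;> fin_cases j <;> simp [upT, Matrix.mul_apply, Fin.sum_univ_two, add_comm])

lemma upHom_injective : Function.Injective (upHom (F := F)) := fun a b h =>
  Multiplicative.toAdd.injective (congrArg (fun g : SL2 F => g.1 0 1) h)

lemma add_self_two (h2 : (2 : F) = 0) (x : F) : x + x = 0 := by rw [← two_mul, h2, zero_mul]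

lemma neg_eq_two (h2 : (2 : F) = 0) (x : F) : -x = x := by
  linear_combination (-1 : F) * (add_self_two h2 x)

lemma mem_of_sq [Fintype F] (h2 : (2 : F) = 0) {K : Subfield F} {x : F} (h : x ^ 2 ∈ K) : x ∈ K := by
  refine Transv.mem_of_pow_card ?_
  have h1 := Transv.pow_card_of_mem h
  rw [← pow_mul, mul_comm, pow_mul] at h1
  have : (x ^ Nat.card K - x) ^ 2 = 0 := by
    linear_combination h1 + (x ^ 2 - x ^ Nat.card K * x) * h2
  exact sub_eq_zero.1 (pow_eq_zero_iff two_ne_zero |>.1 this)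

lemma mk_injective_two (h2 : (2 : F) = 0) :
    Function.Injective (QuotientGroup.mk' (Subgroup.center (SL2 F))) := by
  rw [injective_iff_map_eq_one]
  intro g hg
  rcases mk_one_iff.1 hg with h | h
  · exact h
  · refine h.trans (Subtype.ext ?_)
    rw [Matrix.SpecialLinearGroup.coe_neg, Matrix.SpecialLinearGroup.coe_one]
    ext i j
    rw [Matrix.neg_apply, neg_eq_two h2]

lemma upT_mul_self (h2 : (2 : F) = 0) (a : F) : upT a * upT a = 1 := Subtype.ext (by
  rw [Matrix.SpecialLinearGroup.coe_mul, Matrix.SpecialLinearGroup.coe_one]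
  ext i j
  fin_cases i <;> fin_cases j <;> simp [upT, Matrix.mul_apply, Fin.sum_univ_two, add_self_two h2])

lemma tr_mul_self (h2 : (2 : F) = 0) (g : SL2 F) : tr (g * g) = tr g ^ 2 := by
  have := det_eq g
  rw [tr, tr, Matrix.SpecialLinearGroup.coe_mul]
  simp only [Matrix.mul_apply, Fin.sum_univ_two]
  linear_combination (g.1 0 1 * g.1 1 0 - g.1 0 0 * g.1 1 1) * h2

lemma tr_pow_two_pow (h2 : (2 : F) = 0) (g : SL2 F) (k : ℕ) : tr (g ^ 2 ^ k) = tr g ^ 2 ^ k := by
  induction k with
  | zero => simp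
  | succ k ih => rw [pow_succ, pow_mul, pow_two, tr_mul_self h2, ih, ← pow_mul, ← pow_succ]

/-- An element commuting with an upper transvection. -/
lemma eq_upT_of_commute (h2 : (2 : F) = 0) {a : F} (ha : a ≠ 0) {g : SL2 F}
    (h : g * upT a = upT a * g) : ∃ c, g = upT c := by
  have e := congrArg Subtype.val h
  simp only [Matrix.SpecialLinearGroup.coe_mul] at e
  have h10 : g.1 1 0 = 0 := by
    have h1 : (g.1 * (upT a).1) 0 0 = ((upT a).1 * g.1) 0 0 := by rw [e]
    simp [upT, Matrix.mul_apply, Fin.sum_univ_two] at h1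
    exact h1.resolve_left ha
  have hd : g.1 0 0 = g.1 1 1 := by
    have h1 : (g.1 * (upT a).1) 0 1 = ((upT a).1 * g.1) 0 1 := by rw [e]
    simp [upT, Matrix.mul_apply, Fin.sum_univ_two] at h1
    refine mul_right_cancel₀ ha ?_
    linear_combination h1
  have hdet := det_eq g
  have h00 : g.1 0 0 = 1 := by
    have : (g.1 0 0 - 1) ^ 2 = 0 := by
      linear_combination hdet + g.1 0 1 * h10 + g.1 0 0 * hd - (g.1 0 0 - 1) * h2
    exact sub_eq_zero.1 (pow_eq_zero_iff two_ne_zero |>.1 this)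
  refine ⟨g.1 0 1, Subtype.ext ?_⟩
  show g.1 = !![1, g.1 0 1; 0, 1]
  rw [Matrix.eta_fin_two g.1]
  simp [h10, h00, ← hd]

variable [Fintype F]

/-- The Sylow two-subgroup of a group with odd cofactor. -/
lemma card_up (h2 : (2 : F) = 0) (H : Subgroup (SL2 F)) {a : F} (ha : a ≠ 0) (haH : upT a ∈ H) {k x : ℕ}
    (hH : Nat.card H = 2 ^ k * x) (hx : ¬ 2 ∣ x) : Nat.card ↥(H.comap upHom) = 2 ^ k := by
  haveI := Fact.mk Nat.prime_two
  haveI : CharP F 2 := CharTwo.of_one_ne_zero_of_two_eq_zero one_ne_zero h2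
  haveI : Finite (Multiplicative F) := Finite.of_equiv F Multiplicative.ofAdd
  haveI : Finite (SL2 F) := inferInstance
  set A := H.comap upHom with hA
  obtain ⟨n, -, hn⟩ := FiniteField.card F 2
  have hA2 : ∃ j, Nat.card A = 2 ^ j := by
    have h1 : Nat.card A ∣ 2 ^ (n : ℕ) := by
      rw [← hn, ← Nat.card_eq_fintype_card, ← Nat.card_congr (Multiplicative.toAdd (α := F))]
      exact Subgroup.card_subgroup_dvd_card A
    obtain ⟨j, -, hj⟩ := (Nat.dvd_prime_pow Nat.prime_two).1 h1
    exact ⟨j, hj⟩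
  obtain ⟨j, hj⟩ := hA2
  have hcA : Nat.card (A.map upHom) = Nat.card A := Subgroup.card_map_of_injective upHom_injective
  have hAH : A.map upHom ≤ H := Subgroup.map_comap_le _ _
  have hle : Nat.card A ≤ 2 ^ k := by
    have h1 : Nat.card A ∣ 2 ^ k * x := hH ▸ hcA ▸ Subgroup.card_dvd_of_le hAH
    refine Nat.le_of_dvd (by positivity) (Nat.Coprime.dvd_of_dvd_mul_right ?_ h1)
    rw [hj]
    exact Nat.Coprime.pow_left _ (Nat.prime_two.coprime_iff_not_dvd.2 hx)
  let t : H := ⟨upT a, haH⟩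
  have ht : IsPGroup 2 (Subgroup.zpowers t) := by
    refine IsPGroup.of_card (n := 1) ?_
    rw [Nat.card_zpowers, pow_one]
    refine orderOf_eq_prime ?_ ?_
    · refine Subtype.ext ?_
      show upT a ^ 2 = 1
      rw [pow_two, upT_mul_self h2]
    · intro h
      have := congrArg (fun g : H => (g : SL2 F).1 0 1) h
      simp [t, upT] at this
      exact ha this
  obtain ⟨P, hP⟩ := ht.exists_le_sylow
  have htP : t ∈ (P : Subgroup H) := hP (Subgroup.mem_zpowers t)
  haveI : Nontrivial (P : Subgroup H) := ⟨⟨⟨t, htP⟩, 1, fun h => ha (by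
    have := congrArg (fun g : (P : Subgroup H) => ((g : H) : SL2 F).1 0 1) h
    simpa [t, upT] using this)⟩⟩
  haveI := P.isPGroup'.center_nontrivial
  obtain ⟨z, hz⟩ := exists_ne (1 : Subgroup.center (P : Subgroup H))
  have hcomm : ∀ g : (P : Subgroup H), ((g : H) : SL2 F) * ((z.1 : H) : SL2 F) = ((z.1 : H) : SL2 F) * (g : H) :=
    fun g => congrArg (fun y : (P : Subgroup H) => ((y : H) : SL2 F)) (Subgroup.mem_center_iff.1 z.2 g)
  obtain ⟨c, hc⟩ := eq_upT_of_commute h2 ha (hcomm ⟨t, htP⟩).symm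
  have hc0 : c ≠ 0 := fun h0 => hz (Subtype.ext (Subtype.ext (Subtype.ext (hc.trans (by
    rw [h0]; exact map_one (upHom (F := F)))))))
  have hPA : (P : Subgroup H).map H.subtype ≤ A.map upHom := by
    rintro _ ⟨g, hg, rfl⟩
    obtain ⟨d, hd⟩ := eq_upT_of_commute h2 hc0 (hc ▸ hcomm ⟨g, hg⟩)
    refine ⟨Multiplicative.ofAdd d, ?_, hd.symm⟩
    show upT d ∈ H
    exact hd ▸ g.2
  have h1 : 2 ^ k ≤ Nat.card A := by
    have h2' : 2 ^ k ∣ Nat.card (P : Subgroup H) :=
      P.pow_dvd_card_of_pow_dvd_card (hH ▸ dvd_mul_right _ _)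
    rw [← hcA]
    refine (Nat.le_of_dvd Nat.card_pos h2').trans ?_
    rw [← Subgroup.card_map_of_injective H.subtype_injective]
    exact Nat.card_le_card_of_injective _ (Subgroup.inclusion_injective hPA)
  omega

set_option maxHeartbeats 800000 in
/-- **A large root group and an opposite involution give `SL₂` over a subfield.** -/
theorem sl_two (h2 : (2 : F) = 0) (H : Subgroup (SL2 F)) (hup : 4 ≤ Nat.card {a : F // upT a ∈ H})
    (hlo : loT 1 ∈ H) : ∃ R : Subfield F, (∀ a, upT a ∈ H ↔ a ∈ R) ∧ ∀ a, loT a ∈ H ↔ a ∈ R := by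
  classical
  haveI := Fact.mk Nat.prime_two
  haveI : CharP F 2 := CharTwo.of_one_ne_zero_of_two_eq_zero one_ne_zero h2
  haveI : Finite (Multiplicative F) := Finite.of_equiv F Multiplicative.ofAdd
  set π := QuotientGroup.mk' (Subgroup.center (SL2 F)) with hπ
  have hinj : Function.Injective π := mk_injective_two h2
  have hAc : Nat.card ↥(H.comap upHom) = Nat.card {a : F // upT a ∈ H} := Nat.card_congr
    ((Equiv.subtypeEquiv (Multiplicative.toAdd (α := F)) fun a => Iff.rfl))
  have htr : ∀ a : F, tr (loT 1 * upT a) = a := fun a => by rw [tr_loT_upT, h2, zero_add]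
  obtain ⟨a0, ha0, ha0H⟩ : ∃ a : F, a ≠ 0 ∧ upT a ∈ H := by
    by_contra hno
    push Not at hno
    have : Nat.card {a : F // upT a ∈ H} ≤ 1 := by
      rw [Finite.card_le_one_iff_subsingleton]
      exact ⟨fun a b => Subtype.ext (by
        rw [show (a : F) = 0 from by_contra fun h => hno a h a.2,
          show (b : F) = 0 from by_contra fun h => hno b h b.2])⟩
    omega
  have hlo2 : loT (1 : F) * loT 1 = 1 := Subtype.ext (by
    rw [Matrix.SpecialLinearGroup.coe_mul, Matrix.SpecialLinearGroup.coe_one]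
    ext i j
    fin_cases i <;> fin_cases j <;> simp [loT, Matrix.mul_apply, Fin.sum_univ_two, add_self_two h2])
  have hlo1 : loT (1 : F) ≠ 1 := fun h => by
    have := congrArg (fun g : SL2 F => g.1 1 0) h
    simp [loT] at this
  have hup2 : ∀ a : F, upT a * upT a = 1 := upT_mul_self h2
  have heven : 2 ∣ Nat.card (H.map π) := by
    rw [Subgroup.card_map_of_injective hinj]
    have : orderOf (⟨loT 1, hlo⟩ : H) = 2 := orderOf_eq_prime (Subtype.ext (by
      show loT (1 : F) ^ 2 = 1
      rw [pow_two, hlo2])) fun h => hlo1 (congrArg Subtype.val h)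
    have hd := orderOf_dvd_natCard (⟨loT 1, hlo⟩ : H)
    rwa [this] at hd
  rcases psl_dickson_std 2 (H.map π) with ⟨-, S, hS⟩ | ⟨h, -⟩ | ⟨n, -, hn2, -, hcard, -⟩ | ⟨h, -⟩ |
    ⟨h, -⟩ | ⟨R, m, u, -, -, hR | ⟨h, -⟩⟩
  · exfalso
    have hinv : ∀ g ∈ H, g * g = 1 → π g ∈ (S : Subgroup (PSL2 F)) := by
      intro g hg hg2
      have hz : IsPGroup 2 (Subgroup.zpowers (π g)) := by
        rintro ⟨w, i, rfl⟩
        refine ⟨1, Subtype.ext ?_⟩
        simp only [pow_one, Subgroup.coe_pow, Subgroup.coe_one]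
        rw [← zpow_natCast, ← _root_.zpow_mul, mul_comm, _root_.zpow_mul, zpow_natCast, pow_two,
          ← map_mul, hg2, map_one, _root_.one_zpow]
      have h1 := hz.inf_normalizer_sylow S
      have h3 : π g ∈ Subgroup.zpowers (π g) ⊓ Subgroup.normalizer ((S : Subgroup (PSL2 F)) : Set (PSL2 F)) :=
        ⟨Subgroup.mem_zpowers _, hS ⟨g, hg, rfl⟩⟩
      exact (Subgroup.mem_inf.1 (h1.le h3)).2
    obtain ⟨k, hk⟩ := S.isPGroup' ⟨_, mul_mem (hinv _ hlo hlo2) (hinv _ ha0H (hup2 a0))⟩
    have h1 : π ((loT 1 * upT a0) ^ 2 ^ k) = 1 := by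
      rw [map_pow, map_mul]
      exact congrArg Subtype.val hk
    have h3 := congrArg tr (hinj (h1.trans (map_one π).symm))
    rw [tr_pow_two_pow h2, htr] at h3
    have : tr (1 : SL2 F) = 0 := by simp [tr, add_self_two h2]
    rw [this] at h3
    exact ha0 (pow_eq_zero_iff (by positivity) |>.1 h3)
  · exact absurd heven h
  · exfalso
    have h4 : 4 ∣ Nat.card ↥(H.comap upHom) := by
      obtain ⟨nn, -, hnn⟩ := FiniteField.card F 2
      have hd : Nat.card ↥(H.comap upHom) ∣ 2 ^ (nn : ℕ) := by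
        rw [← hnn, ← Nat.card_eq_fintype_card, ← Nat.card_congr (Multiplicative.toAdd (α := F))]
        exact Subgroup.card_subgroup_dvd_card _
      obtain ⟨j, -, hj⟩ := (Nat.dvd_prime_pow Nat.prime_two).1 hd
      rw [hj]
      have hj2 : 2 ≤ j := by
        by_contra hlt
        have : 2 ^ j ≤ 2 ^ 1 := Nat.pow_le_pow_right two_pos (by omega)
        omega
      exact dvd_trans (by norm_num) (pow_dvd_pow 2 hj2)
    have h5 : Nat.card ↥(H.comap upHom) ∣ Nat.card (H.map π) := by
      rw [Subgroup.card_map_of_injective hinj, ← Subgroup.card_map_of_injective upHom_injective]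
      exact Subgroup.card_dvd_of_le (Subgroup.map_comap_le _ _)
    have := h4.trans h5
    rw [hcard] at this
    omega
  · exact absurd heven h
  · norm_num at h
  swap
  · exact absurd rfl h
  refine ⟨R, ?_⟩
  obtain ⟨k, hk1, hkc, -⟩ := q_cases (F := R) 2
  haveI : CharP R 2 := (R.subtype).charP R.subtype.injective 2
  obtain ⟨x, hx, -, hxc, -⟩ := card_psl_split (F := R) 2
  have hH : Nat.card H = 2 ^ k * x := by
    rw [← hkc, ← hxc, ← Subgroup.card_map_of_injective hinj,
      ← Subgroup.card_map_of_injective (outConj u).injective]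
    exact (Nat.card_congr (MulEquiv.subgroupCongr hR).toEquiv).trans
      (Nat.card_congr (nonempty_stdPSL_equiv R.subtype).some.toEquiv)
  have htrR : ∀ g ∈ H, tr g ∈ R := by
    intro g hg
    have h1 : outConj u (π g) ∈ stdPGL R.subtype :=
      stdPSL_le_stdPGL _ (hR ▸ ⟨π g, ⟨g, hg, rfl⟩, rfl⟩)
    rw [hπ, QuotientGroup.mk'_apply, outConj_mk'] at h1
    have := tr_sq_mem_of_stdPGL h1
    rw [tr_semiSL] at this
    exact mem_of_sq h2 this
  have hupR : ∀ a, upT a ∈ H → a ∈ R := fun a ha => htr a ▸ htrR _ (H.mul_mem hlo ha)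
  have hcard : ∀ (p : F → Prop), Nat.card {a : F // p a} = 2 ^ k → (∀ a, p a → a ∈ R) →
      ∀ a, p a ↔ a ∈ R := by
    intro p hp hpR a
    refine ⟨hpR a, fun ha => ?_⟩
    have hs : {a | p a} = (R : Set F) := Set.eq_of_subset_of_ncard_le hpR (le_of_eq (by
      rw [← Nat.card_coe_set_eq, ← Nat.card_coe_set_eq]
      exact hkc.trans hp.symm)) (Set.toFinite _)
    exact (Set.ext_iff.1 hs a).2 ha
  have hupR' := hcard _ (hAc ▸ card_up h2 H ha0 ha0H hH hx) hupR
  refine ⟨hupR', ?_⟩
  -- the opposite root group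
  let w : SL2 F := ⟨!![0, 1; 1, 0], by
    rw [Matrix.det_fin_two_of]; linear_combination (-1 : F) * h2⟩
  have hw : ∀ c, w * loT c = upT c * w := fun c => Subtype.ext (by
    simp only [Matrix.SpecialLinearGroup.coe_mul]
    ext i j
    fin_cases i <;> fin_cases j <;> simp [w, loT, upT, Matrix.mul_apply, Fin.sum_univ_two])
  have hconj : ∀ c, upT c ∈ H.map (MulAut.conj w).toMonoidHom ↔ loT c ∈ H := by
    intro c
    constructor
    · rintro ⟨g, hg, hge⟩
      rw [MulEquiv.coe_toMonoidHom, MulAut.conj_apply, mul_inv_eq_iff_eq_mul, ← hw] at hge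
      exact mul_left_cancel hge ▸ hg
    · intro hg
      exact ⟨loT c, hg, by rw [MulEquiv.coe_toMonoidHom, MulAut.conj_apply, hw, mul_inv_cancel_right]⟩
  have hloc : Nat.card {a : F // loT a ∈ H} = 2 ^ k := by
    rw [← card_up h2 (H.map (MulAut.conj w).toMonoidHom) one_ne_zero ((hconj 1).2 hlo)
      (by rw [Subgroup.card_map_of_injective (MulAut.conj w).injective, hH]) hx]
    exact Nat.card_congr (Equiv.subtypeEquiv Multiplicative.ofAdd fun c => (hconj c).symm)
  refine hcard _ hloc fun c hc => ?_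
  have h1 := htrR _ (H.mul_mem hc ((hupR' 1).2 R.one_mem))
  have h3 : tr (loT c * upT 1) = c := by
    rw [tr, Matrix.SpecialLinearGroup.coe_mul]
    simp [loT, upT, Matrix.mul_apply, Fin.sum_univ_two]
    linear_combination h2
  rwa [h3] at h1

end Cfsg.Agent.Mitchell.TransvTwo
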