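/-
Characteristic two: the largest root groups.
Main results:
* `pair` : a root group with four elements and an opposite transvection give a subfield
* `exists_frame` : coordinates for a largest root group
-/
import Cfsg.Agent.Lib.Mitchell.TransvTwo.SLTwo
import Cfsg.Agent.Lib.Mitchell.Transv.Dichotomy

set_option autoImplicit false
set_option linter.unusedSectionVars false
set_option linter.style.haveILetI false

namespace Cfsg.Agent.Mitchell.TransvTwo

open Matrix Cfsg.Agent.SL3Max Cfsg.Agent.Transvect Cfsg.Agent.Mitchell.Transv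


variable {F : Type*} [Field F]

/-- `SL₂` on the first two coordinates. -/
noncomputable def emb : Matrix.SpecialLinearGroup (Fin 2) F →* GL (Fin 3) F :=
  MonoidHom.toHomUnits
    { toFun := fun g => !![g.1 0 0, g.1 0 1, 0; g.1 1 0, g.1 1 1, 0; 0, 0, 1]
      map_one' := by ext i j; fin_cases i <;> fin_cases j <;> simp
      map_mul' := fun g h => by
        rw [Matrix.SpecialLinearGroup.coe_mul]
        ext i j
        fin_cases i <;> fin_cases j <;> simp [Matrix.mul_apply, Fin.sum_univ_two, Fin.sum_univ_three] }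

lemma emb_val (g : Matrix.SpecialLinearGroup (Fin 2) F) :
    (emb g : Matrix (Fin 3) (Fin 3) F) = !![g.1 0 0, g.1 0 1, 0; g.1 1 0, g.1 1 1, 0; 0, 0, 1] := rfl

variable {G : Subgroup (GL (Fin 3) F)}

lemma T_iff_upT (a : F) :
    T G (Pi.single 0 1) (Pi.single 1 a) ↔ PSL2.upT a ∈ G.comap emb := by
  have h0 : (Pi.single 1 a : V3 F) ⬝ᵥ Pi.single 0 1 = 0 := by simp
  have e : emb (PSL2.upT a) = tr (Pi.single 0 1) (Pi.single 1 a) := Units.ext (by
    rw [emb_val, tr_val h0]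
    ext i j
    fin_cases i <;> fin_cases j <;> simp [PSL2.upT, vecMulVec_apply])
  rw [Subgroup.mem_comap, e]
  exact ⟨fun h => h.2, fun h => ⟨h0, h⟩⟩

lemma T_iff_loT (a : F) :
    T G (Pi.single 1 1) (Pi.single 0 a) ↔ PSL2.loT a ∈ G.comap emb := by
  have h0 : (Pi.single 0 a : V3 F) ⬝ᵥ Pi.single 1 1 = 0 := by simp
  have e : emb (PSL2.loT a) = tr (Pi.single 1 1) (Pi.single 0 a) := Units.ext (by
    rw [emb_val, tr_val h0]
    ext i j
    fin_cases i <;> fin_cases j <;> simp [PSL2.loT, vecMulVec_apply])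
  rw [Subgroup.mem_comap, e]
  exact ⟨fun h => h.2, fun h => ⟨h0, h⟩⟩

variable {c φ d ψ : V3 F}

/-- Standard coordinates for a pair, both ways. -/
theorem coords (hc : φ ⬝ᵥ c = 0) (hd : ψ ⬝ᵥ d = 0) {l : F} (hl : (φ ⬝ᵥ d) * (ψ ⬝ᵥ c) = l) (hl0 : l ≠ 0) :
    ∃ P : GL (Fin 3) F, ∀ a : F,
      (T (G.map (Transv.conjHom P)) (Pi.single 0 1) (Pi.single 1 a) ↔ T G c ((a / l) • φ)) ∧
      (T (G.map (Transv.conjHom P)) (Pi.single 1 1) (Pi.single 0 a) ↔ T G d (a • ψ)) := by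
  set β := ψ ⬝ᵥ c with hβ
  have hβ0 : β ≠ 0 := fun h => hl0 (by rw [← hl, h, mul_zero])
  set b : Fin 3 → V3 F := ![c, β • d, crossProduct φ ψ] with hb
  set b' : Fin 3 → V3 F := ![β⁻¹ • ψ, l⁻¹ • φ, (-l⁻¹) • crossProduct c d] with hb'
  have hid : ∀ i j, b' i ⬝ᵥ b j = (1 : Matrix (Fin 3) (Fin 3) F) i j := by
    intro i j
    have hcd : crossProduct c d ⬝ᵥ crossProduct φ ψ = -l := by
      rw [cross_dot_cross, dotProduct_comm c φ, dotProduct_comm d ψ, hc, hd, dotProduct_comm c ψ,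
        dotProduct_comm d φ, ← hβ, ← hl]
      ring
    fin_cases i <;> fin_cases j <;> simp [hb, hb', smul_dotProduct, dotProduct_smul, hc, hd,
      ← hβ, hβ0, hl0, dot_self_cross, dot_cross_self, hcd]
    all_goals first
      | (rw [dotProduct_comm]; exact dot_self_cross c d)
      | (rw [dotProduct_comm]; exact dot_cross_self c d)
      | (field_simp; linear_combination hl)
  let P0 : Matrix (Fin 3) (Fin 3) F := Matrix.of fun i j => b j i
  let Q0 : Matrix (Fin 3) (Fin 3) F := Matrix.of fun i j => b' i j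
  have hQP : Q0 * P0 = 1 := Matrix.ext fun i j => hid i j
  let P : GL (Fin 3) F := ⟨P0, Q0, mul_eq_one_comm.1 hQP, hQP⟩
  have hP : ∀ i x, P0 *ᵥ (Pi.single i x) = x • b i := fun i x => by
    rw [Matrix.mulVec_single]; ext k; simp [P0, mul_comm]
  have hQ : ∀ i x, (Pi.single i x) ᵥ* Q0 = x • b' i := fun i x => by
    rw [Matrix.single_vecMul]; ext k; simp [Q0]
  refine ⟨P, fun a => ⟨?_, ?_⟩⟩
  · rw [T_conjHom]
    show T G (P0 *ᵥ _) (_ ᵥ* Q0) ↔ _
    rw [hP, hQ, one_smul]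
    simp [hb, hb', smul_smul, div_eq_mul_inv]
  · rw [T_conjHom]
    show T G (P0 *ᵥ _) (_ ᵥ* Q0) ↔ _
    rw [hP, hQ, one_smul]
    simp only [hb, hb', Matrix.cons_val_one, Matrix.cons_val_zero, smul_smul]
    constructor
    · intro h
      have := h.rescale (inv_ne_zero hβ0)
      simpa [smul_smul, hβ0, mul_comm a, mul_assoc] using this
    · intro h
      have := h.rescale hβ0
      simpa [smul_smul, mul_comm a] using this

variable [Fintype F]

/-- **A root group with four elements and an opposite transvection.** -/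
theorem pair (h2 : (2 : F) = 0) (hA : 4 ≤ Nat.card {l : F // T G c (l • φ)}) (hc : φ ⬝ᵥ c = 0)
    (hd : T G d ψ) (hne : (φ ⬝ᵥ d) * (ψ ⬝ᵥ c) ≠ 0) :
    ∃ R : Subfield F, (∀ l, T G c (l • φ) ↔ l * ((φ ⬝ᵥ d) * (ψ ⬝ᵥ c)) ∈ R) ∧
      ∀ l, T G d (l • ψ) ↔ l ∈ R := by
  set μ := (φ ⬝ᵥ d) * (ψ ⬝ᵥ c) with hμ
  obtain ⟨P, hP⟩ := coords (G := G) hc hd.1 hμ.symm hne
  set G' := G.map (Transv.conjHom P)
  have hup : 4 ≤ Nat.card {a : F // PSL2.upT a ∈ G'.comap emb} := by
    refine hA.trans (le_of_eq (Nat.card_congr (Equiv.subtypeEquiv (Equiv.mulRight₀ μ hne) fun a => ?_)))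
    rw [Equiv.mulRight₀_apply, ← T_iff_upT, (hP (a * μ)).1, mul_div_cancel_right₀ _ hne]
  have hlo : PSL2.loT 1 ∈ G'.comap emb := by
    rw [← T_iff_loT, (hP 1).2, one_smul]; exact hd
  obtain ⟨R, h1, h2'⟩ := sl_two h2 _ hup hlo
  refine ⟨R, fun l => ?_, fun l => ?_⟩
  · rw [← h1, ← T_iff_upT, (hP (l * μ)).1, mul_div_cancel_right₀ _ hne]
  · rw [← h2', ← T_iff_loT, (hP l).2]

lemma card_root_eq {R : Subfield F} {p : F → Prop} {μ : F} (hμ : μ ≠ 0) (h : ∀ l, p l ↔ l * μ ∈ R) :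
    Nat.card {l : F // p l} = Nat.card R :=
  Nat.card_congr (Equiv.subtypeEquiv (Equiv.mulRight₀ μ hμ) fun a => h a)

lemma eq_of_card_eq {R K : Subfield F} (h : Nat.card R = Nat.card K) : R = K := by
  refine SetLike.coe_injective (Set.eq_of_subset_of_ncard_le (fun x hx => ?_) ?_ (Set.toFinite _))
  · exact Transv.mem_of_pow_card (by rw [← h]; exact Transv.pow_card_of_mem hx)
  · rw [← Nat.card_coe_set_eq, ← Nat.card_coe_set_eq]
    exact h.ge

/-- A largest root group and an opposite one. -/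
structure Fr2 (G : Subgroup (GL (Fin 3) F)) (K : Subfield F) : Prop where
  two : (2 : F) = 0
  sys : Sys G
  four : 4 ≤ Nat.card K
  r12 : ∀ a ∈ K, T G (Pi.single 0 1) (Pi.single 1 a)
  r21 : ∀ a ∈ K, T G (Pi.single 1 1) (Pi.single 0 a)
  bound : ∀ c φ : V3 F, c ≠ 0 → φ ≠ 0 → Nat.card {l : F // T G c (l • φ)} ≤ Nat.card K

variable {K : Subfield F}

lemma Fr2.pair_eq (H : Fr2 G K) {c φ e χ : V3 F} (hc : ∀ a ∈ K, T G c (a • φ)) (h : T G e χ)
    (hne : (φ ⬝ᵥ e) * (χ ⬝ᵥ c) ≠ 0) : (φ ⬝ᵥ e) * (χ ⬝ᵥ c) ∈ K ∧ ∀ a ∈ K, T G e (a • χ) := by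
  have hc1 : T G c φ := by simpa using hc 1 K.one_mem
  have hc0 : c ≠ 0 := fun h0 => hne (by rw [h0, dotProduct_zero, mul_zero])
  have hφ0 : φ ≠ 0 := fun h0 => hne (by rw [h0, zero_dotProduct, zero_mul])
  have hle : Nat.card K ≤ Nat.card {l : F // T G c (l • φ)} :=
    Nat.card_le_card_of_injective (fun a : K => (⟨a, hc a a.2⟩ : {l : F // T G c (l • φ)}))
      fun a b hab => Subtype.ext (congrArg (fun y : {l : F // T G c (l • φ)} => (y : F)) hab)
  obtain ⟨R, h1, h2⟩ := TransvTwo.pair H.two (H.four.trans hle) hc1.1 h hne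
  have hR : R = K := eq_of_card_eq (le_antisymm ((card_root_eq hne h1).symm.trans_le (H.bound c φ hc0 hφ0))
    (hle.trans (card_root_eq hne h1).le))
  subst hR
  refine ⟨?_, fun a ha => (h2 a).2 ha⟩
  have := (h1 1).1 (hc 1 R.one_mem)
  rwa [one_mul] at this

lemma Fr2.val_mem (H : Fr2 G K) {c φ e χ : V3 F} (hc : ∀ a ∈ K, T G c (a • φ)) (h : T G e χ) :
    (φ ⬝ᵥ e) * (χ ⬝ᵥ c) ∈ K := by
  by_cases hne : (φ ⬝ᵥ e) * (χ ⬝ᵥ c) = 0
  · rw [hne]; exact K.zero_mem
  · exact (H.pair_eq hc h hne).1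

lemma Fr2.roots (H : Fr2 G K) : Roots G K := ⟨H.sys, H.r12, H.r21, H.val_mem⟩

lemma half_two (h2 : (2 : F) = 0) : Half K := fun a b hab _ hm => by
  refine mem_of_sq h2 ?_
  rw [show a ^ 2 = -(a * b) by linear_combination a * hab]
  exact K.neg_mem hm

lemma diag_two (h2 : (2 : F) = 0) : Diag K := fun e χ horth ho hd => by
  have hm : e 0 * χ 0 * (e 1 * χ 1) ∈ K := by
    rw [show e 0 * χ 0 * (e 1 * χ 1) = e 1 * χ 0 * (e 0 * χ 1) by ring]
    exact K.mul_mem (ho 1 0 (by decide)) (ho 0 1 (by decide))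
  by_cases hτ : e 2 * χ 2 = 0
  · exact half_two h2 _ (e 1 * χ 1) (by linear_combination horth - hτ) hd hm
  · have hτK : e 2 * χ 2 ∈ K := by
      rw [show e 2 * χ 2 = -(e 0 * χ 0 - e 1 * χ 1) by
        linear_combination horth - (e 1 * χ 1) * h2]
      exact K.neg_mem hd
    rw [show e 0 * χ 0 = e 0 * χ 2 * (e 2 * χ 0) / (e 2 * χ 2) by rw [eq_div_iff hτ]; ring]
    exact K.div_mem (K.mul_mem (ho 0 2 (by decide)) (ho 2 0 (by decide))) hτK

/-- **Coordinates for a largest root group.** -/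
theorem exists_frame (h2 : (2 : F) = 0) (hS : Sys G)
    (hbig : ∃ (c χ : V3 F) (l : F), c ≠ 0 ∧ χ ≠ 0 ∧ l ≠ 0 ∧ l ≠ 1 ∧ T G c χ ∧ T G c (l • χ)) :
    ∃ (P : GL (Fin 3) F) (K : Subfield F), Fr2 (G.map (Transv.conjHom P)) K := by
  classical
  let n : V3 F × V3 F → ℕ := fun q => Nat.card {l : F // T G q.1 (l • q.2)}
  let S : Finset (V3 F × V3 F) := Finset.univ.filter fun q => q.1 ≠ 0 ∧ q.2 ≠ 0
  obtain ⟨c0, χ0, l, hc0, hχ0, hl0, hl1, hT1, hTl⟩ := hbig
  have h4 : 4 ≤ n (c0, χ0) := by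
    have hz : T G c0 ((0 : F) • χ0) := by rw [zero_smul]; exact T.zero_right c0
    have ho : T G c0 ((1 : F) • χ0) := by rw [one_smul]; exact hT1
    have ha : T G c0 ((1 + l) • χ0) := by rw [add_smul, one_smul]; exact T.add hT1 hTl
    refine le_trans (le_of_eq ?_) (Nat.card_le_card_of_injective
      (fun i : Fin 4 => (⟨![0, 1, l, 1 + l] i, by fin_cases i <;> first | exact hz | exact ho | exact hTl | exact ha⟩ :
        {x : F // T G c0 (x • χ0)})) ?_)
    · simp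
    intro i j hij
    have hij' : ![0, 1, l, 1 + l] i = ![0, 1, l, 1 + l] j :=
      congrArg (fun y : {x : F // T G c0 (x • χ0)} => (y : F)) hij
    have h11 : (1 : F) + l ≠ 0 := fun h => hl1 (by linear_combination h - h2)
    fin_cases i <;> fin_cases j <;> simp at hij' ⊢ <;>
      first
        | exact absurd hij' hl0 | exact absurd hij'.symm hl0 | exact absurd hij' hl1
        | exact absurd hij'.symm hl1 | exact absurd hij' h11 | exact absurd hij'.symm h11
  obtain ⟨⟨c, φ⟩, hcφ, hmax⟩ := S.exists_max_image n ⟨(c0, χ0), Finset.mem_filter.2 ⟨Finset.mem_univ _, hc0, hχ0⟩⟩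
  obtain ⟨-, hc, hφ⟩ := Finset.mem_filter.1 hcφ
  simp only at hc hφ
  set r := n (c, φ) with hr
  have hr4 : 4 ≤ r := h4.trans (hmax (c0, χ0) (Finset.mem_filter.2 ⟨Finset.mem_univ _, hc0, hχ0⟩))
  have horth : ∀ {d ψ : V3 F}, r ≤ n (d, ψ) → ψ ⬝ᵥ d = 0 := by
    intro d ψ h
    obtain ⟨⟨x, hx⟩, hx0⟩ : ∃ x : {l : F // T G d (l • ψ)}, (x : F) ≠ 0 := by
      by_contra hno
      push Not at hno
      have : n (d, ψ) ≤ 1 := by
        show Nat.card {l : F // T G d (l • ψ)} ≤ 1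
        rw [Finite.card_le_one_iff_subsingleton]
        exact ⟨fun a b => Subtype.ext (by rw [hno a, hno b])⟩
      omega
    have := hx.1
    rw [smul_dotProduct, smul_eq_mul] at this
    exact (mul_eq_zero.1 this).resolve_left hx0
  -- a member of the largest flags with an opposite transvection
  obtain ⟨c, φ, d, ψ, hcr, hd, hne⟩ : ∃ c φ d ψ : V3 F, r ≤ n (c, φ) ∧ T G d ψ ∧
      (φ ⬝ᵥ d) * (ψ ⬝ᵥ c) ≠ 0 := by
    by_contra hno
    push Not at hno
    have hφc := horth (d := c) (ψ := φ) hr.le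
    obtain ⟨d, ψ, hd0, hd, hψc⟩ := hS.axis c hc
    obtain ⟨e, χ, hχ, he, hφe⟩ := hS.centre φ hφ
    have hφd : φ ⬝ᵥ d = 0 := (mul_eq_zero.1 (hno c φ d ψ hr.le hd)).resolve_right hψc
    have hχc : χ ⬝ᵥ c = 0 := (mul_eq_zero.1 (hno c φ e χ hr.le he)).resolve_left hφe
    have hdφ : r ≤ n (d, φ) := by
      refine Nat.card_le_card_of_injective (fun l : {l : F // T G c (l • φ)} =>
        (⟨(ψ ⬝ᵥ c) * (l : F), ?_⟩ : {l : F // T G d (l • φ)})) fun a b hab => Subtype.ext ?_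
      · have h1 := T.comm_left hd l.2 (by rw [smul_dotProduct, hφd, smul_zero])
        have := T.shift h1 (by rw [smul_dotProduct, hφd, smul_zero])
        rwa [smul_smul] at this
      · exact mul_left_cancel₀ hψc (congrArg (fun y : {l : F // T G d (l • φ)} => (y : F)) hab)
    have hχd : χ ⬝ᵥ d = 0 := (mul_eq_zero.1 (hno d φ e χ hdφ he)).resolve_left hφe
    have hdχ : dot φ ≠ 0 := fun h => hφe (by simpa using LinearMap.congr_fun h e)
    have hnot : d ∉ F ∙ c := fun hmem => by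
      obtain ⟨a, rfl⟩ := Submodule.mem_span_singleton.1 hmem
      have h0 := hd.1
      rw [dotProduct_smul, smul_eq_mul] at h0
      exact hd0 (by rw [(mul_eq_zero.1 h0).resolve_right hψc, zero_smul])
    obtain ⟨a, ha⟩ := line_unique (ψ := dot χ) hdχ hc hnot hφc hφd hχc hχd
    have h1 := LinearMap.congr_fun ha e
    simp only [dot_apply, LinearMap.smul_apply, smul_eq_mul, he.1] at h1
    have ha0 : a = 0 := (mul_eq_zero.1 h1.symm).resolve_right hφe
    rw [ha0, zero_smul] at ha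
    exact hχ (funext fun i => by simpa using LinearMap.congr_fun ha (Pi.single i 1))
  have hc' : c ≠ 0 := fun h0 => hne (by rw [h0, dotProduct_zero, mul_zero])
  have hφ' : φ ≠ 0 := fun h0 => hne (by rw [h0, zero_dotProduct, zero_mul])
  have hφc := horth hcr
  obtain ⟨K, hK1, hK2⟩ := pair h2 (hr4.trans hcr) hφc hd hne
  have hKr : Nat.card K = r := (card_root_eq hne hK1).symm.trans
    (le_antisymm (hmax (c, φ) (Finset.mem_filter.2 ⟨Finset.mem_univ _, hc', hφ'⟩)) hcr)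
  obtain ⟨P, hP⟩ := coords (G := G) hφc hd.1 rfl hne
  refine ⟨P, K, h2, hS.map_conj P, hKr ▸ hr4, fun a ha => ?_, fun a ha => ?_, fun e χ he hχ => ?_⟩
  · rw [(hP a).1, hK1, div_mul_cancel₀ _ hne]; exact ha
  · rw [(hP a).2, hK2]; exact ha
  · have hPe : (P : Matrix (Fin 3) (Fin 3) F) *ᵥ e ≠ 0 := by
      rw [← app_apply]; exact (app P).map_ne_zero_iff.2 he
    have hχP : χ ᵥ* ((P⁻¹ : GL (Fin 3) F) : Matrix (Fin 3) (Fin 3) F) ≠ 0 := fun h0 => hχ (by
      have := congrArg (fun w => w ᵥ* (P : Matrix (Fin 3) (Fin 3) F)) h0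
      simpa [vecMul_vecMul] using this)
    refine le_trans (le_of_eq ?_) ((hmax (_, _) (Finset.mem_filter.2 ⟨Finset.mem_univ _, hPe, hχP⟩)).trans hKr.ge)
    exact Nat.card_congr (Equiv.subtypeEquiv (Equiv.refl F) fun l => by
      rw [T_conjHom, Matrix.smul_vecMul]; rfl)

end Cfsg.Agent.Mitchell.TransvTwo
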