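/-
Characteristic two: irreducible groups generated by transvections, some root group of order at least four.
Main results: `isSLOrSU_of_transvections_two`.
-/
import Cfsg.Agent.Lib.Mitchell.TransvTwo.Frame
import Cfsg.Agent.Lib.Mitchell.Transv.Main

set_option autoImplicit false
set_option linter.unusedSectionVars false
set_option linter.style.haveILetI false

namespace Cfsg.Agent.Mitchell

open Matrix Cfsg.Agent.SL3Max Cfsg.Agent.Transvect Cfsg.Agent.Mitchell.Transv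
open Cfsg.Agent.Mitchell.TransvTwo

variable {F : Type*} [Field F] [Fintype F] {G : Subgroup (GL (Fin 3) F)} {K : Subfield F}

/-- The shape off the block in characteristic two. -/
private lemma shape_two (H : Roots G K) (h2 : (2 : F) = 0) (hno' : ¬ Trig (G.map dualHom))
    {σ : F →+* F} (hσ : ∀ x, σ x = x ↔ x ∈ K) {e χ : V3 F} (h : T G e χ) (he2 : e 2 ≠ 0) (hχ2 : χ 2 ≠ 0) :
    ∃ (ξ ι A : F), σ (σ ξ) = ξ ∧ σ ξ ≠ ξ ∧ ι ≠ 0 ∧ A ∈ K ∧ A ≠ 0 ∧ e 1 ≠ 0 ∧
      e = e 1 • ![ξ, 1, ι] ∧ e 1 • χ = A • ![1, -σ ξ, -((ξ - σ ξ) / ι)] := by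
  obtain ⟨hp, hq, hD⟩ := H.entries h
  set a := e 0 * χ 0 with ha
  set b := e 1 * χ 1 with hb
  have haK : a ∉ K := fun hmem => hno' (H.trig_of_mem (half_two h2) h he2 hχ2 hmem)
  have hm : a * b ∈ K := by
    rw [ha, hb, show e 0 * χ 0 * (e 1 * χ 1) = e 1 * χ 0 * (e 0 * χ 1) by ring]
    exact K.mul_mem hp hq
  have hσm : σ a * σ b = a * b := by rw [← map_mul]; exact (hσ _).2 hm
  have hσd : σ a - σ b = a - b := by rw [← map_sub]; exact (hσ _).2 hD
  have hne : σ a ≠ a := fun h0 => haK ((hσ a).1 h0)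
  have hσa : σ a = -b := by
    have h0 : (σ a - a) * (σ a + b) = 0 := by linear_combination hσm + σ a * hσd
    exact eq_neg_of_add_eq_zero_left ((mul_eq_zero.1 h0).resolve_left (sub_ne_zero.2 hne))
  have hσb : σ (-b) = a := by
    rw [map_neg]
    linear_combination hσd - hσa
  refine H.shape σ hσ h he2 hχ2 (fun h0 => haK (by rw [ha, h0]; exact K.zero_mem)) (fun h0 => haK ?_) hσa hσb
  rw [show a = a - b by rw [hb, h0, sub_zero]]
  exact hD

set_option maxHeartbeats 800000 in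
/-- The unitary case. -/
private lemma unitary_two (H : Roots G K) (h2 : (2 : F) = 0) (hr3 : 3 ≤ Nat.card K) (hno : ¬ Trig G)
    (hno' : ¬ Trig (G.map dualHom)) {σ : F →+* F} (hr : ∀ x, σ x = x ^ Nat.card K)
    (hσ : ∀ x, σ x = x ↔ x ∈ K) {ξ : F} (hξξ : σ (σ ξ) = ξ) (hξ : σ ξ ≠ ξ)
    (h0 : W G K σ (ξ - σ ξ) ξ 1) : IsSLOrSU G := by
  set κ := ξ - σ ξ with hκ
  have hκ0 : κ ≠ 0 := sub_ne_zero.2 (Ne.symm hξ)
  have hσκ : σ κ = -κ := by rw [hκ, map_sub, hξξ]; ring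
  have hκK : σ κ = κ := by rw [hσκ, neg_eq_two h2]
  have hξK : ξ ∉ K := fun hm => hξ ((hσ ξ).2 hm)
  refine H.isSU_of_basis σ hr hσ hσκ hκ0 (card_quad hr hσ hξξ hξK) hr3 ?_
    (fun a b => W.orbit H hσ hξξ hξ hκ h0)
    (H.shapes (half_two h2) hno hno' hσ hξξ hξ hκ h0 fun e χ hT he2 hχ2 =>
      shape_two H h2 hno' hσ hT he2 hχ2)
  have hξL : ξ ∈ quad σ := mem_quad.2 hξξ
  have hσξL : σ ξ ∈ quad σ := mem_quad.2 (by rw [hξξ])
  have hκL : κ ∈ quad σ := (quad σ).sub_mem hξL hσξL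
  let k : quad σ := ⟨κ, hκL⟩⁻¹
  let M : Matrix (Fin 3) (Fin 3) (quad σ) :=
    !![k * ⟨ξ, hξL⟩, k * ⟨σ ξ, hσξL⟩, 0; k, k, 0; 0, 0, k]
  have hM : M.det ≠ 0 := by
    intro hd
    have h' := congrArg (fun z : quad σ => (z : F)) hd
    simp [M, k, Matrix.det_fin_three] at h'
    have e : κ⁻¹ * κ⁻¹ * κ⁻¹ * κ = 0 := by rw [hκ] at h' ⊢; linear_combination h'
    simp [hκ0] at e
  refine ⟨Matrix.GeneralLinearGroup.mkOfDetNeZero M hM, fun x w => ?_⟩
  have hm : ((Matrix.GeneralLinearGroup.map (quad σ).subtype (Matrix.GeneralLinearGroup.mkOfDetNeZero M hM)) :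
      Matrix (Fin 3) (Fin 3) F) = M.map (quad σ).subtype := rfl
  rw [hm]
  simp [M, k, S, dotProduct, Matrix.mulVec, Fin.sum_univ_three, map_add, map_mul, hκK, hξξ]
  field_simp
  rw [hκ]
  linear_combination (x 1 * σ (w 1) * (σ ξ - ξ) + x 2 * σ (w 2) * (σ ξ - ξ)) * h2

/-- **Irreducible groups generated by transvections, characteristic two.** -/
theorem isSLOrSU_of_transvections_two (h2 : (2 : F) = 0) (G : Subgroup (GL (Fin 3) F))
    (_hsl : G ≤ Cfsg.Geo.specialLinear (Fin 3) F) (hirr : Irred G)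
    (hgen : G = Subgroup.closure (tvSet G))
    (hbig : ∃ (c χ : V3 F) (l : F), c ≠ 0 ∧ χ ≠ 0 ∧ l ≠ 0 ∧ l ≠ 1 ∧ Transv.T G c χ ∧ Transv.T G c (l • χ)) :
    IsSLOrSU G := by
  obtain ⟨P, K, H⟩ := TransvTwo.exists_frame h2 (sys_of_irred hirr hgen) hbig
  refine IsSLOrSU.of_conj (P := P) ?_
  generalize G.map (Transv.conjHom P) = G' at H
  have hR := H.roots
  have hD := diag_two (K := K) h2
  have hH := half_two (K := K) h2
  by_cases t1 : Trig G'
  · exact (hR.isSL_of_trig hD t1).isSLOrSU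
  by_cases t2 : Trig (G'.map dualHom)
  · exact (IsSL.of_dual (hR.map_dual.isSL_of_trig hD t2)).isSLOrSU
  obtain ⟨σ, hr, hσ⟩ := exists_conj K
  obtain ⟨e, χ, he, h, hχ2⟩ := H.sys.axis (Pi.single 2 1) (by simp)
  rw [dotProduct_single, mul_one] at hχ2
  have he2 : e 2 ≠ 0 := fun he2 => t2 (hR.map_dual.trig_of_axis hH (T_dualHom.2 h) he he2 hχ2)
  obtain ⟨ξ, ι, A, hξξ, hξ, hι, hA, hA0, he1, hee, hχe⟩ := shape_two hR h2 t2 hσ h he2 hχ2
  have hfull : ∀ a ∈ K, T G' e (a • χ) := (H.pair_eq hR.root21 h (by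
    have e0 : (Pi.single 0 1 : V3 F) ⬝ᵥ e = e 1 * ξ := by
      rw [single_dotProduct, one_mul]
      exact congrFun hee 0
    have e1 : e 1 * (χ ⬝ᵥ Pi.single 1 1) = A * -σ ξ := by
      rw [dotProduct_single, mul_one]
      exact congrFun hχe 1
    rw [e0, mul_right_comm, e1]
    refine mul_ne_zero (mul_ne_zero hA0 (neg_ne_zero.2 fun h0 => hξ ?_)) fun h0 => hξ ?_
    · rw [h0, ← hξξ, h0, map_zero]
    · rw [h0, map_zero])).2
  let D : GL (Fin 3) F := ⟨diagonal ![1, 1, ι], diagonal ![1, 1, ι⁻¹],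
    by rw [diagonal_mul_diagonal, ← diagonal_one]; congr 1; funext i; fin_cases i <;> simp [hι],
    by rw [diagonal_mul_diagonal, ← diagonal_one]; congr 1; funext i; fin_cases i <;> simp [hι]⟩
  refine IsSLOrSU.of_conj (P := D) ?_
  have H1 : Roots (G'.map (Transv.conjHom D)) K := hR.map_conj D
    (fun i hi => by
      show diagonal ![1, 1, ι] *ᵥ _ = _
      ext k; fin_cases i <;> fin_cases k <;> simp [mulVec_diagonal] at hi ⊢)
    (fun i hi a => by
      show _ ᵥ* diagonal ![1, 1, ι⁻¹] = _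
      ext k; fin_cases i <;> fin_cases k <;> simp [vecMul_diagonal] at hi ⊢)
  have hW : W (G'.map (Transv.conjHom D)) K σ (ξ - σ ξ) ξ 1 := by
    intro k hk
    rw [T_conjHom]
    show T G' (diagonal ![1, 1, ι] *ᵥ _) (_ ᵥ* diagonal ![1, 1, ι⁻¹])
    have hr' := (hfull (k / A) (K.div_mem hk hA)).rescale (inv_ne_zero he1)
    rw [inv_inv, smul_comm, hχe, smul_smul, div_mul_cancel₀ _ hA0] at hr'
    convert hr' using 1
    · conv_rhs => rw [hee]
      ext i; fin_cases i <;> simp [mulVec_diagonal, inv_mul_cancel₀ he1, ← mul_assoc]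
    · ext i; fin_cases i <;> simp [vecMul_diagonal, S] <;> ring
  by_cases s1 : Trig (G'.map (Transv.conjHom D))
  · exact (H1.isSL_of_trig hD s1).isSLOrSU
  by_cases s2 : Trig ((G'.map (Transv.conjHom D)).map dualHom)
  · exact (IsSL.of_dual (H1.map_dual.isSL_of_trig hD s2)).isSLOrSU
  exact unitary_two H1 h2 (by have := H.four; omega) s1 s2 hr hσ hξξ hξ hW

end Cfsg.Agent.Mitchell
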